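import Groth.Agent.Lib.RDerLES.Horseshoe
import Groth.Prelude.Def_RDer
import Mathlib.Algebra.Homology.ShortComplex.PreservesHomology

/-! The first non-vanishing derived functor of a composite. -/

universe v₁ v₂ v₃ u₁ u₂ u₃

open CategoryTheory CategoryTheory.Limits

namespace Groth.Agent.RDEdge19

set_option backward.isDefEq.respectTransparency false
set_option backward.isDefEq.respectTransparency.types false
set_option linter.style.haveILetI false
set_option linter.unusedSectionVars false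

section

variable {B : Type u₂} [Category.{v₂} B] [Abelian B] [HasInjectiveResolutions B]
  {C : Type u₃} [Category.{v₃} C] [Abelian C] (Ψ : B ⥤ C) [Ψ.Additive] [PreservesFiniteLimits Ψ]

/-- Acyclic objects. -/
def Acy (A : B) : Prop := ∀ q : ℕ, IsZero ((Ψ.rightDerived (q + 1)).obj A)

theorem acy_of_isZero {A : B} (h : IsZero A) : Acy Ψ A := fun q => (Ψ.rightDerived (q + 1)).map_isZero h

theorem acy_of_iso {A A' : B} (e : A ≅ A') (h : Acy Ψ A) : Acy Ψ A' := fun q =>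
  (h q).of_iso ((Ψ.rightDerived (q + 1)).mapIso e.symm)

theorem acy_of_injective (A : B) [Injective A] : Acy Ψ A := fun q =>
  Ψ.isZero_rightDerived_obj_injective_succ q A

variable [EnoughInjectives B]

theorem shortExact_map_of_acy {S : ShortComplex B} (hS : S.ShortExact) (h₁ : Acy Ψ S.X₁) :
    (S.map Ψ).ShortExact ∧ (Acy Ψ S.X₂ → Acy Ψ S.X₃) := by
  obtain ⟨T⟩ := RDerLES.exists_sesRes hS
  refine ⟨?_, fun h₂ q => ?_⟩
  · haveI := hS.mono_f
    obtain ⟨w, he⟩ := (RDerLES.exact_sequences Ψ T 0 1 rfl).2.1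
    haveI : Epi ((Ψ.rightDerived 0).map S.g) := he.epi_f ((h₁ 0).eq_of_tgt _ _)
    have h := Ψ.rightDerivedZeroIsoSelf.hom.naturality S.g
    haveI : Epi (Ψ.rightDerivedZeroIsoSelf.hom.app S.X₂ ≫ Ψ.map S.g) := h ▸ (inferInstance :
      Epi ((Ψ.rightDerived 0).map S.g ≫ Ψ.rightDerivedZeroIsoSelf.hom.app S.X₃))
    haveI he' : Epi (Ψ.map S.g) := epi_of_epi (Ψ.rightDerivedZeroIsoSelf.hom.app S.X₂) _
    haveI : Epi (S.map Ψ).g := he'
    haveI : Mono (S.map Ψ).f := inferInstanceAs (Mono (Ψ.map S.f))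
    exact { exact := hS.exact.map_of_mono_of_preservesKernel Ψ hS.mono_f inferInstance }
  · obtain ⟨w, he⟩ := (RDerLES.exact_sequences Ψ T (q + 1) (q + 1 + 1) rfl).2.1
    exact he.isZero_of_both_zeros ((h₂ q).eq_of_src _ _) ((h₁ (q + 1)).eq_of_tgt _ _)

variable (K : CochainComplex B ℕ)

/-- Coboundaries are acyclic and lift. -/
def Good (p : ℕ) : Prop :=
  ∃ (I : B) (e : K.X ((ComplexShape.up ℕ).prev p) ⟶ I) (i : I ⟶ K.cycles p), Mono i ∧
    e ≫ i = K.toCycles _ p ∧ Epi (Ψ.map e) ∧ Epi e ∧ Acy Ψ I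

theorem good_zero : Good Ψ K 0 := by
  refine ⟨kernel (𝟙 (K.X 0)), 0, 0, ⟨fun a b _ => (isZero_kernel_of_mono _).eq_of_tgt _ _⟩, ?_, ?_,
    ⟨fun a b _ => (isZero_kernel_of_mono _).eq_of_src _ _⟩, acy_of_isZero Ψ (isZero_kernel_of_mono _)⟩
  · rw [zero_comp, ← cancel_mono (K.iCycles 0), HomologicalComplex.toCycles_i, zero_comp,
      K.shape _ _ (by simp)]
  · exact ⟨fun a b _ => (Ψ.map_isZero (isZero_kernel_of_mono _)).eq_of_src _ _⟩

theorem exists_ses_cycles (p : ℕ) :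
    ∃ (I : B) (i : I ⟶ K.cycles p) (w : i ≫ K.homologyπ p = 0), (ShortComplex.mk i (K.homologyπ p) w).ShortExact ∧
      ∃ e : K.X ((ComplexShape.up ℕ).prev p) ⟶ I, e ≫ i = K.toCycles _ p ∧ Epi e := by
  refine ⟨kernel (K.homologyπ p), kernel.ι _, kernel.condition _,
    { exact := ShortComplex.exact_of_f_is_kernel _ (kernelIsKernel _) },
    kernel.lift _ _ (K.toCycles_comp_homologyπ _ p), kernel.lift_ι _ _ _, ?_⟩
  have h : (ShortComplex.mk _ _ (K.toCycles_comp_homologyπ ((ComplexShape.up ℕ).prev p) p)).Exact :=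
    ShortComplex.exact_of_g_is_cokernel _ (K.homologyIsCokernel _ p rfl)
  exact (ShortComplex.exact_iff_epi_kernel_lift _).1 h

theorem acy_cycles {p : ℕ} (hp : Good Ψ K p) (h : IsZero (K.homology p)) : Acy Ψ (K.cycles p) := by
  obtain ⟨I, e, i, hi, hei, -, -, hI⟩ := hp
  haveI : Epi (K.toCycles ((ComplexShape.up ℕ).prev p) p) :=
    (ShortComplex.exact_of_g_is_cokernel (ShortComplex.mk _ _ (K.toCycles_comp_homologyπ _ p))
      (K.homologyIsCokernel _ p rfl)).epi_f (h.eq_of_tgt _ _)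
  haveI : Epi (e ≫ i) := hei ▸ this
  haveI : Epi i := epi_of_epi e i
  haveI : IsIso i := isIso_of_mono_of_epi i
  exact acy_of_iso Ψ (asIso i) hI

theorem good_succ (hK : ∀ n, Acy Ψ (K.X n)) (p : ℕ) (hp : Good Ψ K p) (h : IsZero (K.homology p)) :
    Good Ψ K (p + 1) := by
  have hprev : (ComplexShape.up ℕ).prev (p + 1) = p := CochainComplex.prev_nat_succ p
  obtain ⟨I, i, w, hS, e, he, hepi⟩ := exists_ses_cycles K (p + 1)
  haveI := hS.mono_f
  haveI : Mono i := hS.mono_f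
  haveI := hepi
  have hZ := acy_cycles Ψ K hp h
  let e' : K.X p ⟶ I := (K.XIsoOfEq hprev).inv ≫ e
  have hd : e' ≫ i ≫ K.iCycles (p + 1) = K.d p (p + 1) := by
    show ((K.XIsoOfEq hprev).inv ≫ e) ≫ i ≫ K.iCycles (p + 1) = _
    rw [Category.assoc, reassoc_of% he, HomologicalComplex.toCycles_i, HomologicalComplex.XIsoOfEq_inv_comp_d]
  have w' : K.iCycles p ≫ e' = 0 := by
    rw [← cancel_mono (i ≫ K.iCycles (p + 1)), Category.assoc, hd, zero_comp]
    exact K.iCycles_d p (p + 1)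
  have hS' : (ShortComplex.mk (K.iCycles p) e' w').ShortExact :=
    { exact := by
        refine ShortComplex.exact_of_f_is_kernel _ ?_
        refine isKernelOfComp (i ≫ K.iCycles (p + 1)) (K.d p (p + 1)) (K.cyclesIsKernel p (p + 1) (by simp)) w' ?_
        exact hd
      epi_g := inferInstanceAs (Epi ((K.XIsoOfEq hprev).inv ≫ e)) }
  obtain ⟨hΨ, hA⟩ := shortExact_map_of_acy Ψ hS' hZ
  haveI : Epi (Ψ.map e') := hΨ.epi_g
  refine ⟨I, e, i, inferInstance, he, ?_, hepi, hA (hK p)⟩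
  haveI : Epi (Ψ.map (K.XIsoOfEq hprev).inv ≫ Ψ.map e) := by rw [← Ψ.map_comp]; exact this
  exact epi_of_epi (Ψ.map (K.XIsoOfEq hprev).inv) _

theorem good (hK : ∀ n, Acy Ψ (K.X n)) : ∀ p, (∀ q, q < p → IsZero (K.homology q)) → Good Ψ K p
  | 0, _ => good_zero Ψ K
  | p + 1, h => good_succ Ψ K hK p (good hK p fun q hq => h q (by omega)) (h p (by omega))

theorem nonempty_homology_map_iso (hK : ∀ n, Acy Ψ (K.X n)) (p : ℕ)
    (h : ∀ q, q < p → IsZero (K.homology q)) :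
    Nonempty (((Ψ.mapHomologicalComplex _).obj K).homology p ≅ Ψ.obj (K.homology p)) := by
  obtain ⟨I, e, i, hi, hei, hepi, hepi', hI⟩ := good Ψ K hK p h
  haveI := hi
  haveI := hepi
  haveI := hepi'
  have hi0 : i ≫ K.homologyπ p = 0 := by
    rw [← cancel_epi e, reassoc_of% hei, K.toCycles_comp_homologyπ, comp_zero]
  have hS : (ShortComplex.mk i (K.homologyπ p) hi0).ShortExact :=
    { exact := by
        have hex := ShortComplex.exact_of_g_is_cokernel
          (ShortComplex.mk _ _ (K.toCycles_comp_homologyπ ((ComplexShape.up ℕ).prev p) p))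
          (K.homologyIsCokernel _ p rfl)
        exact (ShortComplex.exact_iff_of_epi_of_isIso_of_mono
          (S₁ := ShortComplex.mk _ _ (K.toCycles_comp_homologyπ ((ComplexShape.up ℕ).prev p) p))
          (S₂ := ShortComplex.mk i (K.homologyπ p) hi0)
          { τ₁ := e, τ₂ := 𝟙 _, τ₃ := 𝟙 _, comm₁₂ := by simp [hei], comm₂₃ := by simp }).1 hex }
  obtain ⟨hΨ, -⟩ := shortExact_map_of_acy Ψ hS hI
  let L := (K.sc p).leftHomologyData
  have hcol : IsColimit (CokernelCofork.ofπ (Ψ.map (K.homologyπ p))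
      (show Ψ.map (K.toCycles ((ComplexShape.up ℕ).prev p) p) ≫ Ψ.map (K.homologyπ p) = 0 by
        rw [← Ψ.map_comp, K.toCycles_comp_homologyπ, Ψ.map_zero])) := by
    haveI : Epi (ShortComplex.mk i (K.homologyπ p) hi0 |>.map Ψ).g := hΨ.epi_g
    exact isCokernelEpiComp hΨ.exact.gIsCokernel (Ψ.map e) (by rw [← hei, Ψ.map_comp]; rfl)
  have key : ∀ (w : Ψ.map (K.d ((ComplexShape.up ℕ).prev p) p) ≫ Ψ.map (K.d p ((ComplexShape.up ℕ).next p)) = 0),
      (KernelFork.mapIsLimit _ (K.cyclesIsKernel p ((ComplexShape.up ℕ).next p) rfl) Ψ).lift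
        (KernelFork.ofι (Ψ.map (K.d ((ComplexShape.up ℕ).prev p) p)) w) = Ψ.map (K.toCycles _ p) := fun w => by
    refine Fork.IsLimit.hom_ext (KernelFork.mapIsLimit _ (K.cyclesIsKernel p _ rfl) Ψ) ?_
    rw [Fork.IsLimit.lift_ι]
    show Ψ.map (K.d _ p) = Ψ.map (K.toCycles _ p) ≫ Ψ.map (K.iCycles p)
    rw [← Ψ.map_comp, K.toCycles_i]
  refine ⟨ShortComplex.LeftHomologyData.homologyIso
    (S := ((Ψ.mapHomologicalComplex _).obj K).sc p)
    { K := Ψ.obj (K.cycles p)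
      H := Ψ.obj (K.homology p)
      i := Ψ.map (K.iCycles p)
      π := Ψ.map (K.homologyπ p)
      wi := by
        show Ψ.map (K.iCycles p) ≫ Ψ.map (K.d p ((ComplexShape.up ℕ).next p)) = 0
        rw [← Ψ.map_comp, K.iCycles_d, Ψ.map_zero]
      hi := KernelFork.mapIsLimit _ (K.cyclesIsKernel p ((ComplexShape.up ℕ).next p) rfl) Ψ
      wπ := ?_
      hπ := ?_ }⟩
  · refine (congrArg (· ≫ Ψ.map (K.homologyπ p)) (key _)).trans ?_
    exact (Ψ.map_comp _ _).symm.trans ((congrArg Ψ.map (K.toCycles_comp_homologyπ _ p)).trans (Ψ.map_zero _ _))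
  · haveI : Epi (Ψ.map (K.homologyπ p)) := hΨ.epi_g
    exact CokernelCofork.IsColimit.ofπ' _ _ fun k hk =>
      CokernelCofork.IsColimit.desc' hcol k (by rw [← key]; exact hk)

end

end Groth.Agent.RDEdge19

namespace Groth.Agent.RDEdge19

variable {A : Type u₁} [Category.{v₁} A] [Abelian A] [HasInjectiveResolutions A]
  {B : Type u₂} [Category.{v₂} B] [Abelian B] [HasInjectiveResolutions B] [EnoughInjectives B]
  {C : Type u₃} [Category.{v₃} C] [Abelian C]

/-- The first non-vanishing derived functor of a composite. -/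
theorem nonempty_rightDerived_comp_iso (Φ : A ⥤ B) [Φ.Additive] (Ψ : B ⥤ C) [Ψ.Additive] [PreservesFiniteLimits Ψ]
    (hΦ : ∀ I : A, Injective I → Acy Ψ (Φ.obj I)) (X : A) (m : ℕ)
    (h : ∀ q, q < m → IsZero ((Φ.rightDerived q).obj X)) :
    Nonempty (((Φ ⋙ Ψ).rightDerived m).obj X ≅ Ψ.obj ((Φ.rightDerived m).obj X)) := by
  let R := injectiveResolution X
  obtain ⟨e⟩ := nonempty_homology_map_iso Ψ ((Φ.mapHomologicalComplex _).obj R.cocomplex)
    (fun n => hΦ _ (R.injective n)) m fun q hq => (h q hq).of_iso (R.isoRightDerivedObj Φ q).symm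
  exact ⟨R.isoRightDerivedObj (Φ ⋙ Ψ) m ≪≫ e ≪≫ Ψ.mapIso (R.isoRightDerivedObj Φ m).symm⟩

theorem isZero_rightDerived_comp (Φ : A ⥤ B) [Φ.Additive] (Ψ : B ⥤ C) [Ψ.Additive] [PreservesFiniteLimits Ψ]
    (hΦ : ∀ I : A, Injective I → Acy Ψ (Φ.obj I)) (X : A) (m : ℕ)
    (h : ∀ q, q ≤ m → IsZero ((Φ.rightDerived q).obj X)) :
    IsZero (((Φ ⋙ Ψ).rightDerived m).obj X) := by
  obtain ⟨e⟩ := nonempty_rightDerived_comp_iso Φ Ψ hΦ X m fun q hq => h q hq.le
  exact (Ψ.map_isZero (h m le_rfl)).of_iso e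

end Groth.Agent.RDEdge19
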